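import Cfsg.Agent.H617.Two.EssLast

/-!
# S4543: transport of `Good` and `Ess` along isomorphisms
-/

set_option autoImplicit false

namespace Cfsg.Agent.H617.Two

open Subgroup

variable {D₁ D₂ : Type*} [Group D₁] [Group D₂]

theorem Good.equiv (ε : D₁ ≃* D₂) (h : Good D₁) : Good D₂ where
  card := by rw [← h.card]; exact (Nat.card_congr ε.toEquiv).symm
  gen := by
    obtain ⟨a, b, hab⟩ := h.gen
    refine ⟨ε a, ε b, ?_⟩
    have h1 : (closure ({a, b} : Set D₁)).map ε.toMonoidHom = ⊤ := by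
      rw [hab, ← MonoidHom.range_eq_map]
      exact MonoidHom.range_eq_top.2 ε.surjective
    rw [MonoidHom.map_closure, Set.image_pair] at h1
    exact h1
  exp := by
    intro x
    have h1 := h.exp (ε.symm x)
    rw [← map_pow, MulEquiv.map_eq_one_iff] at h1
    exact h1
  centre := by
    intro z hz
    have h1 : ε.symm z ∈ center D₁ := by
      rw [mem_center_iff] at hz ⊢
      intro g
      apply ε.injective
      rw [map_mul, map_mul, ε.apply_symm_apply]
      exact hz _
    have h2 := h.centre _ h1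
    rw [← map_mul, MulEquiv.map_eq_one_iff] at h2
    exact h2

theorem Ess.equiv (ε : D₁ ≃* D₂) {z : D₁} {Q : Subgroup D₁} {A : Subgroup (MulAut Q)}
    (h : Ess z Q A) : ∃ (Q₂ : Subgroup D₂) (A₂ : Subgroup (MulAut Q₂)), Ess (ε z) Q₂ A₂ := by
  let e : Q ≃* Q.map ε.toMonoidHom := ε.subgroupMap Q
  have he : ∀ q : Q, ((e q : Q.map ε.toMonoidHom) : D₂) = ε q := fun q => rfl
  let c : MulAut Q ≃* MulAut (Q.map ε.toMonoidHom) := MulAut.congr e
  have hc' : ∀ (β : MulAut Q) (q : Q), c β (e q) = e (β q) := fun β q => by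
    change e (β (e.symm (e q))) = _
    rw [MulEquiv.symm_apply_apply]
  have hmem : ∀ x : D₁, ε x ∈ Q.map ε.toMonoidHom ↔ x ∈ Q := fun x =>
    Subgroup.mem_map_iff_mem ε.injective
  have hconj : ∀ β : MulAut Q,
      (∃ x : D₁, ∀ q : Q, ((β q : Q) : D₁) = x * q * x⁻¹) ↔
        (∃ x : D₂, ∀ q : Q.map ε.toMonoidHom,
          ((c β q : Q.map ε.toMonoidHom) : D₂) = x * q * x⁻¹) := by
    intro β
    constructor
    · rintro ⟨x, hx⟩
      refine ⟨ε x, fun q => ?_⟩
      obtain ⟨q, rfl⟩ := e.surjective q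
      rw [hc', he, he, hx, map_mul, map_mul, map_inv]
    · rintro ⟨x, hx⟩
      refine ⟨ε.symm x, fun q => ?_⟩
      have h1 := hx (e q)
      rw [hc', he, he] at h1
      apply ε.injective
      rw [h1, map_mul, map_mul, map_inv, ε.apply_symm_apply]
  let f : A →* A.map c.toMonoidHom :=
    { toFun := fun β => ⟨c β, ⟨β, β.2, rfl⟩⟩
      map_one' := Subtype.ext (map_one c)
      map_mul' := fun a b => Subtype.ext (map_mul c _ _) }
  refine ⟨Q.map ε.toMonoidHom, A.map c.toMonoidHom, ?_⟩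
  constructor
  · intro h1
    apply h.ne
    rw [eq_top_iff]
    intro x _
    rw [← hmem, h1]
    trivial
  · intro x hx
    obtain ⟨x, rfl⟩ := ε.surjective x
    rw [hmem]
    refine h.cent x fun q hq => ?_
    apply ε.injective
    rw [map_mul, map_mul]
    exact hx _ ((hmem q).2 hq)
  · rintro β ⟨γ, hγ, rfl⟩ q hq
    obtain ⟨q, rfl⟩ := e.surjective q
    rw [he] at hq
    have h1 := h.fix γ hγ q (ε.injective hq)
    change c γ (e q) = e q
    rw [hc', h1]
  · intro β hβ
    obtain ⟨γ, rfl⟩ := c.surjective β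
    exact ⟨γ, h.conj γ ((hconj γ).2 hβ), rfl⟩
  · intro T hT
    have h1 := h.syl (T.comap c.toMonoidHom) (fun β => by
      rw [hconj, Subgroup.mem_comap, ← hT]
      rfl)
    rwa [Subgroup.relIndex_comap] at h1
  · intro N hN hN2 β hβ
    have hfi : Function.Injective f := fun a b hab =>
      Subtype.ext (c.injective (congrArg Subtype.val hab))
    have h1 := h.rad (N.comap f) (hN.comap f) (hN2.comap_of_injective f hfi)
    obtain ⟨γ, hγ, hγβ⟩ := β.2
    have h2 : f ⟨γ, hγ⟩ = β := Subtype.ext hγβ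
    obtain ⟨x, hx, hx'⟩ := h1 ⟨γ, hγ⟩ (by rw [Subgroup.mem_comap, h2]; exact hβ)
    refine ⟨ε x, (hmem x).2 hx, fun q => ?_⟩
    obtain ⟨q, rfl⟩ := e.surjective q
    have h3 : (β : MulAut (Q.map ε.toMonoidHom)) (e q) = e (γ q) := by
      rw [← hγβ]
      exact hc' γ q
    rw [h3, he, he, hx', map_mul, map_mul, map_inv]

end Cfsg.Agent.H617.Two
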