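import Cfsg.Agent.H617.Two.Fus
import Cfsg.Agent.H617.Two.Transport
import Cfsg.Agent.H658.Major
import Cfsg.Agent.H613.NilRank
import Cfsg.Agent.S0973
import Cfsg.Agent.S0908
import Cfsg.Agent.S4540
import Cfsg.Agent.S4677
import Cfsg.Agent.S4686

/-!
# S4543: `k(B) ≤ |D|` for a nonabelian `D` with `Good D`
-/

set_option autoImplicit false
set_option linter.unusedSectionVars false

open Cfsg

namespace Cfsg.Agent.H617.Two

open Cfsg.FusionSystem

universe u

theorem card_le_of_good {G : Type u} [Group G] [Finite G] {M : Ideal AlgInt} (hM : IsPModular 2 M)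
    {B : Set (IrrCharacter G)} (hB : IsPBlock M B) {D : Subgroup G} (hD : IsDefectGroup 2 M B D)
    (hG : Good D) (hna : ∃ a b : D, a * b ≠ b * a) : Nat.card B ≤ Nat.card D := by
  classical
  have hp : Fact (Nat.Prime 2) := ⟨Nat.prime_two⟩
  have := Cfsg.Agent.Blocks.Local.isPrime_of_isPModular hM
  obtain ⟨⟨z, hzD⟩, hz, hz1, hgood⟩ := exists_good hG
  have hzc : ∀ w ∈ D, z * w = w * z := fun w hw =>
    (congrArg Subtype.val (Subgroup.mem_center_iff.1 hz ⟨w, hw⟩)).symm
  obtain ⟨b, -, hb⟩ := (S0973.result 2 M hM B hB D hD).1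
  obtain ⟨f, -, hf, hfD, -⟩ := H658.exists_major hM hD hzD hzc hb
  obtain ⟨H, hH⟩ : ∃ H, H = Subgroup.centralizer ({z} : Set G) := ⟨_, rfl⟩
  have hDH : D ≤ Subgroup.centralizer ({z} : Set G) := fun w hw =>
    Subgroup.mem_centralizer_singleton_iff.2 (hzc w hw).symm
  let ε : D.subgroupOf (Subgroup.centralizer ({z} : Set G)) ≃* D := Subgroup.subgroupOfEquivOfLe hDH
  have hG' := hG.equiv ε.symm
  have := Fintype.ofFinite (Subgroup.centralizer ({z} : Set G))
  obtain ⟨e, he⟩ := H649.exists_pair_of_isDefectGroup hM hf.1 hfD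
  have hmax := H644.isMaximalBrauerPair_of_isDefectGroup hM he hfD
  obtain ⟨F, hF, hsat⟩ := S4677.result 2 M hM f _ e hmax
  let z' : Subgroup.centralizer ({z} : Set G) := ⟨z, hDH hzD⟩
  have hz'D : z' ∈ D.subgroupOf (Subgroup.centralizer ({z} : Set G)) := hzD
  have hna' : ∃ a b : D.subgroupOf (Subgroup.centralizer ({z} : Set G)), a * b ≠ b * a := by
    obtain ⟨a, b, hab⟩ := hna
    refine ⟨ε.symm a, ε.symm b, fun h => hab ?_⟩
    rw [← map_mul, ← map_mul] at h
    exact ε.symm.injective h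
  have hinner := inner_of_good hG' hna' hsat (z := z') hz'D (fun P φ hφ x hx => by
      obtain ⟨-, g, hg, -⟩ := (hF.2 P φ).1 hφ
      rw [hg, hx]
      have h1 : g * z' = z' * g := Subtype.ext (Subgroup.mem_centralizer_singleton_iff.1 g.2)
      rw [h1, mul_inv_cancel_right]) (fun Q A hE => by
      obtain ⟨Q₂, A₂, hE₂⟩ := hE.equiv ε
      exact hgood Q₂ A₂ hE₂)
  have hnil := (S4686.result 2 M hM f _ e hmax F hF).2 hinner
  have hrank := H613.NilRank.rank_one hM hnil
  have h2 := S4540.result M hM B hB D hD z hzD (fun d hd => (hzc d hd).symm) f hf hfD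
    (by rw [hrank]; norm_num)
  rw [S0908.result 2 M hM B hB D hD]
  have h3 := h2.1.trans h2.2
  omega

end Cfsg.Agent.H617.Two
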