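import Cfsg.Agent.H617.Two.EssLast
import Cfsg.Agent.H887.Two.T8
import Cfsg.Agent.H802.FusEss
import Cfsg.Agent.H802.FusAlp
import Cfsg.Agent.S5080

/-!
# S4543: a saturated fusion system fixing a good central element is inner
-/

set_option autoImplicit false
set_option linter.unusedSectionVars false

open Cfsg

namespace Cfsg.Agent.H617.Two

open Cfsg.FusionSystem

variable {Ω : Type*} [Group Ω] {S : Subgroup Ω}

/-- An essential subgroup of a system fixing `z` gives a local situation. -/
theorem ess_of_isEssential [Finite S] (hS : IsPGroup 2 S) {F : FusionSystem S}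
    (hF : F.IsSaturated 2) {z : Ω} (hzS : z ∈ S)
    (hfix : ∀ (P : Subgroup Ω) (φ : P →* Ω), φ ∈ F.Hom P → ∀ x : P, (x : Ω) = z → φ x = z)
    {P : Subgroup Ω} (hP : F.IsEssential 2 P) :
    ∃ (Q : Subgroup S) (A : Subgroup (MulAut Q)), Ess (⟨z, hzS⟩ : S) Q A := by
  have hp : Fact (Nat.Prime 2) := ⟨Nat.prime_two⟩
  have hPS : P ≤ S := hP.2.1.1
  have hfinP : Finite P := H802.finite_of_le hPS
  have hfinM : Finite (MulAut P) := inferInstance
  have hfinA : Finite (F.autGroup P) := inferInstance
  have hne : P ≠ S := H802.ne_of_isEssential hS hF hP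
  have hcent : centralizerIn S P ≤ P := hP.1.2 P (H802.isConj_refl F hPS)
  obtain ⟨-, Y, hY⟩ := H802.isFullyAutomized_of_isFullyNormalized hS hF hP.2.1
  have hrad := (S5080.result 2 hS F hF P hP).2
  let e : P.subgroupOf S ≃* P := Subgroup.subgroupOfEquivOfLe hPS
  have he : ∀ q : P.subgroupOf S, ((e q : P) : Ω) = ((q : S) : Ω) := fun q => rfl
  have hes : ∀ x : P, ((e.symm x : P.subgroupOf S) : S).1 = (x : Ω) := fun x => rfl
  let c : MulAut (P.subgroupOf S) ≃* MulAut P := MulAut.congr e
  have hc : ∀ (β : MulAut (P.subgroupOf S)) (x : P), c β x = e (β (e.symm x)) := fun β x => rfl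
  have hc' : ∀ (β : MulAut (P.subgroupOf S)) (q : P.subgroupOf S), c β (e q) = e (β q) :=
    fun β q => by rw [hc, MulEquiv.symm_apply_apply]
  let A : Subgroup (MulAut (P.subgroupOf S)) := (F.autGroup P).comap c.toMonoidHom
  have hA : ∀ β, β ∈ A ↔ c β ∈ F.autGroup P := fun β => Iff.rfl
  refine ⟨P.subgroupOf S, A, ?_⟩
  have hconj : ∀ β : MulAut (P.subgroupOf S),
      (∃ x : S, ∀ q : P.subgroupOf S, ((β q : P.subgroupOf S) : S) = x * q * x⁻¹) ↔
        c β ∈ autInducedBy S P := by
    intro β
    rw [H802.mem_autInducedBy_iff]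
    constructor
    · rintro ⟨x, hx⟩
      refine ⟨x, x.2, fun q => ?_⟩
      rw [hc, he, hx]
      rfl
    · rintro ⟨g, hg, h⟩
      refine ⟨⟨g, hg⟩, fun q => Subtype.ext ?_⟩
      have h1 := h (e q)
      rw [hc', he] at h1
      exact h1
  constructor
  · -- ne
    intro h
    apply hne
    refine le_antisymm hPS ?_
    exact Subgroup.subgroupOf_eq_top.1 h
  · -- cent
    intro x hx
    rw [Subgroup.mem_subgroupOf]
    apply hcent
    refine Subgroup.mem_inf.2 ⟨x.2, Subgroup.mem_centralizer_iff.2 fun q hq => ?_⟩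
    have := hx ⟨q, hPS hq⟩ hq
    exact (congrArg Subtype.val this).symm
  · -- fix
    intro β hβ q hq
    have h1 := (H802.mem_autGroup_iff F hPS _).1 ((hA β).1 hβ)
    have h2 := hfix P _ h1 (e q) (by rw [he, hq])
    have h3 : ((c β (e q) : P) : Ω) = z := h2
    rw [hc', he] at h3
    refine Subtype.ext (Subtype.ext ?_)
    rw [h3, hq]
  · -- conj
    intro β hβ
    exact H802.autInducedBy_le_autGroup F hPS ((hconj β).1 hβ)
  · -- syl
    intro T hT
    have hT' : T = (autInducedBy S P).comap c.toMonoidHom := by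
      ext β
      rw [hT, hconj]
      rfl
    have hidx : T.relIndex A = (autInducedBy S P).relIndex (F.autGroup P) := by
      rw [hT', Subgroup.relIndex_comap]
      congr 1
      exact Subgroup.map_comap_eq_self_of_surjective c.surjective _
    rw [hidx]
    have h1 := Y.not_dvd_index
    rw [hY] at h1
    exact h1
  · -- rad
    intro N hN hN2 β hβ
    let f : A →* F.autGroup P :=
      { toFun := fun β => ⟨c β, β.2⟩
        map_one' := Subtype.ext (map_one c)
        map_mul' := fun a b => Subtype.ext (map_mul c _ _) }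
    have hf : Function.Surjective f := by
      rintro ⟨γ, hγ⟩
      refine ⟨⟨c.symm γ, ?_⟩, Subtype.ext ?_⟩
      · rw [hA, MulEquiv.apply_symm_apply]; exact hγ
      · exact c.apply_symm_apply γ
    have h1 : N.map f ≤ pCore 2 (F.autGroup P) := le_sSup ⟨hN.map f hf, hN2.map f⟩
    have h2 : c β ∈ Inn P := by
      rw [← hrad]
      exact ⟨f β, h1 ⟨β, hβ, rfl⟩, rfl⟩
    obtain ⟨⟨g, hg⟩, hg'⟩ := h2
    refine ⟨⟨g, hPS hg⟩, hg, fun q => Subtype.ext ?_⟩
    have h3 := hc' β q
    rw [← hg'] at h3
    have h4 := congrArg Subtype.val h3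
    rw [he] at h4
    rw [← h4]
    rfl

/-- The fusion system is inner. -/
theorem inner_of_good [Finite S] (hG : Good S) (hna : ∃ a b : S, a * b ≠ b * a)
    {F : FusionSystem S} (hF : F.IsSaturated 2) {z : Ω} (hzS : z ∈ S)
    (hfix : ∀ (P : Subgroup Ω) (φ : P →* Ω), φ ∈ F.Hom P → ∀ x : P, (x : Ω) = z → φ x = z)
    (hgood : ∀ (Q : Subgroup S) (A : Subgroup (MulAut Q)), ¬ Ess (⟨z, hzS⟩ : S) Q A)
    (P : Subgroup Ω) : F.Hom P = (innerFusionSystem S).Hom P := by
  have hp : Fact (Nat.Prime 2) := ⟨Nat.prime_two⟩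
  have hS := hG.isPGroup
  apply Set.Subset.antisymm
  · refine H802.le_of_essential hS hF (innerFusionSystem S) ?_ (fun Q hQ _ => ?_) P
    · -- the automizer of `S` is a 2-group
      have hSn : F.IsFullyNormalized S := by
        refine ⟨le_rfl, fun Q hQ => ?_⟩
        have hQS : Q = S := by
          have h1 := H802.isConj_card_eq hQ
          exact Cfsg.Agent.H802.eq_of_le_card_eq (H802.isConj_le_right hQ) h1.symm
        rw [hQS]
      obtain ⟨-, R, hR⟩ := H802.isFullyAutomized_of_isFullyNormalized hS hF hSn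
      have hpg : IsPGroup 2 (F.autGroup S) := by
        intro γ
        obtain ⟨k, m, hm, hk⟩ := Nat.exists_eq_two_pow_mul_odd
          (n := orderOf (γ : MulAut S)) (orderOf_pos _).ne'
        refine ⟨k, Subtype.ext ?_⟩
        change (γ : MulAut S) ^ 2 ^ k = 1
        apply Cfsg.Agent.H887.Two.T8 hG hna
        have h1 : orderOf ((γ : MulAut S) ^ 2 ^ k) = m := by
          rw [orderOf_pow_of_dvd (by positivity) (by rw [hk]; exact dvd_mul_right _ _), hk]
          exact Nat.mul_div_cancel_left _ (by positivity)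
        rw [h1]
        exact hm
      have htop : (R : Subgroup (F.autGroup S)) = ⊤ := by
        have h1 : IsPGroup 2 (⊤ : Subgroup (F.autGroup S)) := hpg.to_subgroup ⊤
        exact (R.is_maximal' h1 le_top).symm
      rw [htop] at hR
      have h2 : F.autGroup S ≤ autInducedBy S S := Subgroup.subgroupOf_eq_top.1 hR.symm
      exact h2.trans (Cfsg.Agent.H802.autInducedBy_le_autGroup (innerFusionSystem S) le_rfl)
    · exfalso
      obtain ⟨Q', A, hE⟩ := ess_of_isEssential hS hF hzS hfix hQ
      exact hgood Q' A hE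
  · rintro φ ⟨hP, g, hg, hφ⟩
    have h1 := F.conj_mem (g := g) hP hg
    have h2 : φ = conjHom P g := MonoidHom.ext hφ
    rw [h2]
    exact h1

end Cfsg.Agent.H617.Two
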